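import Groth.Agent.Lib.ProperPush24.Section
import Groth.Agent.Lib.EtStalk.Henselian

/-!
# Lifting geometric points to strictly henselian stages
-/

universe u

open CategoryTheory CategoryTheory.Limits AlgebraicGeometry Opposite

set_option backward.isDefEq.respectTransparency.types false

namespace Groth.Agent.ShFlat24

open Groth.Agent.EtStalk Groth.Agent.Gabber24 Groth.Agent.ProperPush24

variable {Y : Scheme.{u}} {A : Type u} [CommRing A] [HenselianLocalRing A]
  (α : Spec (CommRingCat.of A) ⟶ Y) {Ω : Type u} [Field Ω]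
  (ζ : Spec (CommRingCat.of Ω) ⟶ Spec (CommRingCat.of (IsLocalRing.ResidueField A)))

lemma closedPt_default [IsSepClosed (IsLocalRing.ResidueField A)]
    (z : Spec (CommRingCat.of (IsLocalRing.ResidueField A))) :
    EtStalk.closedPt A z = IsLocalRing.closedPoint A := by
  apply PrimeSpectrum.ext
  show Ideal.comap (IsLocalRing.residue A) _ = IsLocalRing.maximalIdeal A
  rw [Ideal.eq_bot_of_prime (z : PrimeSpectrum (IsLocalRing.ResidueField A)).asIdeal]
  exact IsLocalRing.ker_residue

variable [IsSepClosed (IsLocalRing.ResidueField A)]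

/-- A point of an etale scheme over the closed geometric point extends to the strictly henselian ring. -/
theorem exists_lift (V : Y.Etale) (v : Spec (CommRingCat.of Ω) ⟶ V.left)
    (hv : v ≫ V.hom = ζ ≫ EtStalk.closedPt A ≫ α) :
    ∃ a : Spec (CommRingCat.of A) ⟶ V.left, a ≫ V.hom = α ∧ ζ ≫ EtStalk.closedPt A ≫ a = v := by
  let k := IsLocalRing.ResidueField A
  let U := (EtCoh.bc α).obj V
  let v' : Spec (CommRingCat.of Ω) ⟶ U.left := pullback.lift v (ζ ≫ EtStalk.closedPt A) (by rw [hv, Category.assoc])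
  have hv' : v' ≫ U.hom = ζ ≫ EtStalk.closedPt A := pullback.lift_snd _ _ _
  let Uk := (EtCoh.bc (EtStalk.closedPt A)).obj U
  let v'' : Spec (CommRingCat.of Ω) ⟶ Uk.left := pullback.lift v' ζ hv'
  have hv'' : v'' ≫ Uk.hom = ζ := pullback.lift_snd _ _ _
  obtain ⟨c', hc'⟩ := Scheme.pointSmallEtaleFiberObjToPreimage_surjective (𝟙 (Spec (CommRingCat.of k)))
    (s₀ := (default : Spec (CommRingCat.of k))) rfl Uk ⟨v'' default, @Subsingleton.elim (Spec (CommRingCat.of k)) _ _ _⟩
  let c : Spec (CommRingCat.of k) ⟶ Uk.left := c'.left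
  have hc : c ≫ Uk.hom = 𝟙 _ := Over.w c'
  have hcpt : c default = v'' default := congrArg Subtype.val hc'
  haveI : AlgebraicGeometry.Etale Uk.hom := Uk.prop
  haveI : AlgebraicGeometry.Etale (c ≫ Uk.hom) := by rw [hc]; infer_instance
  haveI : AlgebraicGeometry.Etale c := AlgebraicGeometry.Etale.of_comp c Uk.hom
  haveI : IsSplitMono c := ⟨⟨⟨Uk.hom, hc⟩⟩⟩
  haveI : IsOpenImmersion c := IsOpenImmersion.of_flat_of_mono c
  let l := IsOpenImmersion.lift c v'' (by
    rintro _ ⟨y, rfl⟩
    exact ⟨default, by rw [hcpt, Subsingleton.elim y default]⟩)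
  have hl : l ≫ c = v'' := IsOpenImmersion.lift_fac _ _ _
  have hlζ : l = ζ := by rw [← hv'', ← hl, Category.assoc, hc, Category.comp_id]
  let c₀ : Spec (CommRingCat.of k) ⟶ U.left := c ≫ bcFst (EtStalk.closedPt A) U
  have hc₀ : c₀ ≫ U.hom = EtStalk.closedPt A :=
    (Category.assoc _ _ _).trans ((congrArg (c ≫ ·) pullback.condition).trans
      ((Category.assoc _ _ _).symm.trans ((congrArg (· ≫ EtStalk.closedPt A) hc).trans (Category.id_comp _))))
  obtain ⟨σ, hσ⟩ := EtStalk.exists_section A (U := U) (Over.homMk c₀ hc₀)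
  let s : Spec (CommRingCat.of A) ⟶ U.left := σ.left
  have hs : s ≫ U.hom = 𝟙 _ := MorphismProperty.Over.w σ
  have hσ' : EtStalk.closedPt A ≫ s = c₀ :=
    congrArg (fun t : fib (EtStalk.closedPt A) U => t.left) hσ
  refine ⟨s ≫ bcFst α V, ?_, ?_⟩
  · refine (Category.assoc _ _ _).trans ((congrArg (s ≫ ·) pullback.condition).trans ?_)
    exact (Category.assoc _ _ _).symm.trans ((congrArg (· ≫ α) hs).trans (Category.id_comp _))
  · refine (congrArg (ζ ≫ ·) ((Category.assoc _ _ _).symm.trans (congrArg (· ≫ bcFst α V) hσ'))).trans ?_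
    refine (Category.assoc _ _ _).symm.trans ?_
    refine (congrArg (· ≫ bcFst α V) ((Category.assoc _ _ _).symm.trans
      ((congrArg (· ≫ bcFst (EtStalk.closedPt A) U) (hlζ ▸ hl : ζ ≫ c = v'')).trans (pullback.lift_fst _ _ _)))).trans ?_
    exact pullback.lift_fst _ _ _

/-- Lifts of the closed geometric point are unique. -/
theorem lift_unique (V : Y.Etale) (a a' : Spec (CommRingCat.of A) ⟶ V.left) (h : a ≫ V.hom = a' ≫ V.hom)
    (hpt : ζ ≫ EtStalk.closedPt A ≫ a = ζ ≫ EtStalk.closedPt A ≫ a') : a = a' := by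
  haveI : AlgebraicGeometry.Etale V.hom := V.prop
  let l : Spec (CommRingCat.of A) ⟶ pullback V.hom V.hom := pullback.lift a a' h
  let Δ := pullback.diagonal V.hom
  haveI : IsOpenImmersion Δ := inferInstance
  have hmem : l (IsLocalRing.closedPoint A) ∈ Set.range Δ := by
    let p := ζ ≫ EtStalk.closedPt A
    have he : p ≫ l = (p ≫ a) ≫ Δ := by
      refine pullback.hom_ext ?_ ?_
      · simp only [l, Δ, p, Category.assoc, pullback.lift_fst, pullback.diagonal_fst, Category.comp_id]
      · simp only [l, Δ, p, Category.assoc, pullback.lift_snd, pullback.diagonal_snd, Category.comp_id]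
        exact hpt.symm
    refine ⟨(p ≫ a) default, ?_⟩
    rw [← Scheme.Hom.comp_apply, ← he, Scheme.Hom.comp_apply, Scheme.Hom.comp_apply, closedPt_default]
  have hrange : Set.range l ⊆ Set.range Δ := by
    rintro _ ⟨x, rfl⟩
    exact ((IsLocalRing.specializes_closedPoint x).map l.continuous).mem_open Δ.isOpenMap.isOpen_range hmem
  let m := IsOpenImmersion.lift Δ l hrange
  have hm : m ≫ Δ = l := IsOpenImmersion.lift_fac _ _ _
  have h1 : m = a := by
    have := congrArg (· ≫ pullback.fst V.hom V.hom) hm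
    rw [Category.assoc, pullback.diagonal_fst, Category.comp_id] at this
    exact this.trans (pullback.lift_fst _ _ _)
  have h2 : m = a' := by
    have := congrArg (· ≫ pullback.snd V.hom V.hom) hm
    rw [Category.assoc, pullback.diagonal_snd, Category.comp_id] at this
    exact this.trans (pullback.lift_snd _ _ _)
  rw [← h1, h2]

/-- A point of an etale scheme over the closed geometric point lies on an affine stage. -/
theorem exists_stage (V : Y.Etale) (v : Spec (CommRingCat.of Ω) ⟶ V.left)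
    (hv : v ≫ V.hom = ζ ≫ EtStalk.closedPt A ≫ α) :
    ∃ (T : Stage α) (m : T.V ⟶ V), (ζ ≫ EtStalk.closedPt A ≫ T.a) ≫ m.left = v := by
  obtain ⟨a, ha, hav⟩ := exists_lift α ζ V v hv
  obtain ⟨T, m, hm⟩ := exists_affine_stage (α := α) V a ha
  refine ⟨T, m, ?_⟩
  rw [Category.assoc, Category.assoc, hm, hav]

variable {α} [IsSepClosed Ω]

/-- The point of a stage at the closed geometric point. -/
noncomputable def stageFib {η : Spec (CommRingCat.of Ω) ⟶ Y} (hη : ζ ≫ EtStalk.closedPt A ≫ α = η) (T : Stage α) :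
    fib η T.V :=
  Over.homMk (ζ ≫ EtStalk.closedPt A ≫ T.a) (by
    show (ζ ≫ EtStalk.closedPt A ≫ T.a) ≫ T.V.hom = η
    rw [Category.assoc, Category.assoc, T.w, hη])

variable {X : Scheme.{u}} (f : X ⟶ Y) [QuasiCompact f] [QuasiSeparated f] [Flat α] (F : EtCoh.Ab X)

/-- Germs of direct images are determined over the strict henselization. -/
theorem germ_eq_of_agree {η : Spec (CommRingCat.of Ω) ⟶ Y} (hη : ζ ≫ EtStalk.closedPt A ≫ α = η) (T : Stage α)
    (t t' : F.obj.obj (op ((EtCoh.bc f).obj T.V)))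
    (h : ∀ w : (pullback f α : Scheme.{u}), toStage f T w ∈ agree F t t') :
    germ η ((EtCoh.push f).obj F) (stageFib ζ hη T) t = germ η ((EtCoh.push f).obj F) (stageFib ζ hη T) t' := by
  let p := bcFst f T.V
  haveI := quasiCompact_bcFst f T.V
  obtain ⟨O, hO, hdis⟩ := exists_open_disjoint T p (C := (agree F t t')ᶜ) (isOpen_agree F t t').isClosed_compl (by
    intro w hw
    obtain ⟨z, -, hz⟩ := exists_lift_toStage f T (pullback.fst p T.a) (pullback.snd p T.a) pullback.condition
    apply hw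
    rw [← hz, Scheme.Hom.comp_apply]
    exact h _)
  let vl : Spec (CommRingCat.of Ω) ⟶ T.V.left := ζ ≫ EtStalk.closedPt A ≫ T.a
  let v₀ : Spec (CommRingCat.of Ω) ⟶ O.toScheme := IsOpenImmersion.lift O.ι vl (by
    rw [Scheme.Opens.range_ι]
    rintro _ ⟨z, rfl⟩
    rw [Scheme.Hom.comp_apply, Scheme.Hom.comp_apply, closedPt_default]
    exact hO)
  have hv₀ : v₀ ≫ O.ι = vl := IsOpenImmersion.lift_fac _ _ _
  refine (germ_eq_iff η ((EtCoh.push f).obj F) _ t t').2 ⟨EtSite.sub T.V O, EtSite.subHom T.V O,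
    Over.homMk v₀ (by
      show v₀ ≫ O.ι ≫ T.V.hom = η
      rw [← Category.assoc, hv₀]
      exact Over.w (stageFib ζ hη T)), Over.OverMorphism.ext hv₀, ?_⟩
  refine eq_of_agree F (U := (EtCoh.bc f).obj (EtSite.sub T.V O)) fun u => (mem_agree_map F _ _ _ u).2 ?_
  by_contra hu
  refine hdis _ hu ?_
  show bcFst f T.V (((EtCoh.bc f).map (EtSite.subHom T.V O)).left u) ∈ O
  rw [show bcFst f T.V (((EtCoh.bc f).map (EtSite.subHom T.V O)).left u) = O.ι (bcFst f (EtSite.sub T.V O) u) from
    (Scheme.Hom.comp_apply _ _ _).symm.trans ((congrArg (fun t => t u)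
      (EtCoh.isPullback_bc_map f (EtSite.subHom T.V O)).w).trans (Scheme.Hom.comp_apply _ _ _))]
  exact (bcFst f (EtSite.sub T.V O) u).2

end Groth.Agent.ShFlat24
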