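import Mathlib.AlgebraicGeometry.Morphisms.Flat
import Mathlib.AlgebraicGeometry.Morphisms.Etale
import Mathlib.RingTheory.Etale.Basic

/-!
# Flatness over etale algebras
-/

universe u

open CategoryTheory CategoryTheory.Limits AlgebraicGeometry

set_option backward.isDefEq.respectTransparency.types false

namespace Groth.Agent.ShFlat24

variable {R : Type u} [CommRing R]

/-- Flatness over an etale neighbourhood of an algebra flat over the base. -/
theorem flat_of_etale {S B : Type u} [CommRing S] [CommRing B] [Algebra R S] [Algebra.Etale R S]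
    (φ : S →+* B) (h : RingHom.Flat (φ.comp (algebraMap R S))) : RingHom.Flat φ := by
  let s := Spec.map (CommRingCat.ofHom φ)
  let p := Spec.map (CommRingCat.ofHom (algebraMap R S))
  let b := Spec.map (CommRingCat.ofHom (φ.comp (algebraMap R S)))
  haveI : Flat b := (HasRingHomProperty.Spec_iff (P := @Flat)).2 h
  haveI : AlgebraicGeometry.Etale p :=
    (HasRingHomProperty.Spec_iff (P := @AlgebraicGeometry.Etale)).2 (RingHom.etale_algebraMap.2 inferInstance)
  let c : Spec (CommRingCat.of B) ⟶ pullback p b := pullback.lift s (𝟙 _) (by
    rw [Category.id_comp]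
    exact (Spec.map_comp _ _).symm)
  have hc : c ≫ pullback.snd p b = 𝟙 _ := pullback.lift_snd _ _ _
  haveI : AlgebraicGeometry.Etale (c ≫ pullback.snd p b) := by rw [hc]; infer_instance
  haveI : AlgebraicGeometry.Etale c := AlgebraicGeometry.Etale.of_comp c (pullback.snd p b)
  haveI : Flat s := by
    rw [← show c ≫ pullback.fst p b = s from pullback.lift_fst _ _ _]
    infer_instance
  exact (HasRingHomProperty.Spec_iff (P := @Flat)).1 ‹Flat s›

end Groth.Agent.ShFlat24
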