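import Groth.Agent.Lib.ProperPush24.Model
import Groth.Agent.Lib.ShFlat24.EtaleFlat
import Groth.Agent.Lib.GeomConn24.Connected
import Mathlib.RingTheory.Flat.EquationalCriterion
import Mathlib.RingTheory.Flat.Localization
import Mathlib.RingTheory.Etale.Basic

/-!
# Strict henselizations at a geometric point upstairs and downstairs
-/

universe u

open CategoryTheory CategoryTheory.Limits AlgebraicGeometry Opposite IsLocalRing Groth.Agent.Hens

open scoped TensorProduct

set_option backward.isDefEq.respectTransparency.types false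

namespace Groth.Agent.ShFlat24

section Algebra

variable {R R' : Type u} [CommRing R] [CommRing R'] [Algebra R R'] {Ω : Type u} [Field Ω] [Algebra R Ω]
  [Algebra R' Ω] [IsScalarTower R R' Ω]

lemma exists_upstairs_res (z : Hs R Ω) :
    ∃ w : Hs R' Ω, (Hs.res w : Ω) = Hs.res z := by
  obtain ⟨i, y, rfl⟩ := Hs.exists_of z
  obtain ⟨s, t, rfl⟩ := IsLocalization.exists_mk'_eq i.q.primeCompl y
  have key : ∀ s : i.S, ∃ w : Hs R' Ω, (Hs.res w : Ω) = i.σ s := by
    intro s
    let σ' : R' ⊗[R] i.S →ₐ[R'] Ω :=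
      Algebra.TensorProduct.lift (Algebra.ofId R' Ω) i.σ fun _ _ => .all _ _
    obtain ⟨j, e, he⟩ := Nbhd.exists_of (R' ⊗[R] i.S) σ'
    refine ⟨Hs.of j (algebraMap j.S j.G (e (1 ⊗ₜ s))), ?_⟩
    rw [Hs.res_of, Nbhd.res_algebraMap, he]
    simp [σ']
  obtain ⟨a, ha⟩ := key s
  obtain ⟨b, hb⟩ := key t
  have ht : i.σ (t : i.S) ≠ 0 := fun h => t.2 h
  obtain ⟨u, hu⟩ := (Hs.isUnit_iff b).2 (by rw [hb]; exact ht)
  refine ⟨a * ↑u⁻¹, mul_right_cancel₀ ht ?_⟩
  rw [← hb, ← map_mul, mul_assoc, ← hu, Units.inv_mul, mul_one, ha, hu, hb, Hs.res_of,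
    ← Nbhd.res_algebraMap i (t : i.S), ← map_mul, IsLocalization.mk'_spec, Nbhd.res_algebraMap]

/-- The map of strict henselizations over a map of rings. -/
theorem exists_hsMap :
    ∃ ψ : Hs R Ω →+* Hs R' Ω, (∀ r, ψ (algebraMap R _ r) = algebraMap R' _ (algebraMap R R' r)) ∧
      ∀ x, (Hs.res (ψ x) : Ω) = Hs.res x := by
  letI : Algebra R (Hs R' Ω) := ((algebraMap R' (Hs R' Ω)).comp (algebraMap R R')).toAlgebra
  let κA := ResidueField (Hs R Ω)
  let κB := ResidueField (Hs R' Ω)
  let rA : κA →+* Ω := HensPt14.resK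
  let rB : κB →+* Ω := HensPt14.resK
  have hsurj : ∀ z : κA, ∃ w : κB, rB w = rA z := by
    intro z
    obtain ⟨x, rfl⟩ := residue_surjective z
    obtain ⟨w, hw⟩ := exists_upstairs_res (R' := R') x
    exact ⟨residue _ w, hw⟩
  choose g hg using hsurj
  let τ : κA →+* κB :=
    { toFun := g
      map_one' := rB.injective (by rw [hg, map_one, map_one])
      map_mul' := fun a b => rB.injective (by rw [hg, map_mul, map_mul, hg, hg])
      map_zero' := rB.injective (by rw [hg, map_zero, map_zero])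
      map_add' := fun a b => rB.injective (by rw [hg, map_add, map_add, hg, hg]) }
  let τ' : κA →ₐ[R] κB := { τ with
    commutes' := fun r => rB.injective (by
      show rB (g (residue _ (algebraMap R (Hs R Ω) r))) = rB (residue _ (algebraMap R (Hs R' Ω) r))
      rw [hg]
      show (Hs.res (algebraMap R (Hs R Ω) r) : Ω) = Hs.res (algebraMap R' (Hs R' Ω) (algebraMap R R' r))
      rw [AlgHom.commutes, AlgHom.commutes, ← IsScalarTower.algebraMap_apply]) }
  obtain ⟨ψ, hψ, -⟩ := HensPt14.existsUnique_lift (Hs R' Ω) τ'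
  refine ⟨ψ.toRingHom, fun r => ψ.commutes r, fun x => ?_⟩
  show HensPt14.resK (residue _ (ψ x)) = _
  rw [hψ]
  exact hg _

/-- A module over the colimit which is flat over all etale neighbourhoods is flat. -/
theorem flat_hs_of_stages (M : Type u) [CommRing M] (ψ : Hs R Ω →+* M)
    (h : ∀ i : Nbhd R Ω, RingHom.Flat ((ψ.comp (Hs.of i).toRingHom).comp (algebraMap i.S i.G))) :
    RingHom.Flat ψ := by
  letI := ψ.toAlgebra
  show Module.Flat (Hs R Ω) M
  refine Module.Flat.of_forall_isTrivialRelation fun {l} {a} {x} hax => ?_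
  obtain ⟨i, hb⟩ := Hs.exists_of_finset (R := R) (K := Ω) Finset.univ a
  choose b hb using fun k => hb k (Finset.mem_univ k)
  letI : Algebra i.G M := (ψ.comp (Hs.of i).toRingHom).toAlgebra
  letI : Algebra i.S M := ((ψ.comp (Hs.of i).toRingHom).comp (algebraMap i.S i.G)).toAlgebra
  haveI : IsScalarTower i.S i.G M := @IsScalarTower.of_algebraMap_eq i.S i.G M _ _ _ _ _ _ fun _ => rfl
  haveI : Module.Flat i.S M := h i
  haveI : Module.Flat i.G M := (Module.flat_iff_of_isLocalization i.G i.q.primeCompl M).2 inferInstance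
  have hb' : ∀ k, Hs.of i (b k) = a k := hb
  have hsum : ∑ k, b k • x k = 0 := by
    rw [← hax]
    refine Finset.sum_congr rfl fun k _ => ?_
    show ψ (Hs.of i (b k)) * x k = a k • x k
    rw [hb']
    rfl
  obtain ⟨k, c, y, hc, hy⟩ := Module.Flat.isTrivialRelation_of_sum_smul_eq_zero (R := i.G) (M := M) (f := b) (x := x) hsum
  refine ⟨k, fun p q => Hs.of i (c p q), y, fun p => ?_, fun q => ?_⟩
  · rw [hc p]
    exact Finset.sum_congr rfl fun q _ => rfl
  · have := congrArg (Hs.of i) (hy q)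
    rw [map_sum, map_zero] at this
    simpa [map_mul, hb', smul_eq_mul] using this

end Algebra

/-- The strictly local geometric fibres are connected. -/
def ShConn {X S : Scheme.{u}} (f : X ⟶ S) : Prop :=
  ∀ (x : X) (RS : Type u) [CommRing RS] [IsLocalRing RS] [Algebra (S.presheaf.stalk (f.base x)) RS]
      [IsLocalHom (algebraMap (S.presheaf.stalk (f.base x)) RS)]
      [Hensel.IsStrictHenselization (S.presheaf.stalk (f.base x)) RS]
      (RX : Type u) [CommRing RX] [IsLocalRing RX] [Algebra (X.presheaf.stalk x) RX]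
      [IsLocalHom (algebraMap (X.presheaf.stalk x) RX)] [Hensel.IsStrictHenselization (X.presheaf.stalk x) RX]
      (ψ : RS →+* RX) [IsLocalHom ψ],
      ψ.comp (algebraMap (S.presheaf.stalk (f.base x)) RS) = (algebraMap (X.presheaf.stalk x) RX).comp (f.stalkMap x).hom →
      ∀ (L : Type u) [Field L] [IsAlgClosed L] (η : Spec (CommRingCat.of L) ⟶ Spec (CommRingCat.of RS)),
        ConnectedSpace ↥(pullback (Spec.map (CommRingCat.ofHom ψ)) η)

/-- Local finite presentation and reduced base changes to fields. -/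
def GeomRedFibres {X S : Scheme.{u}} (f : X ⟶ S) : Prop :=
  LocallyOfFinitePresentation f ∧
    ∀ (K : Type u) [Field K] (k : Spec (CommRingCat.of K) ⟶ S), IsReduced (pullback f k)

set_option maxHeartbeats 1000000 in
/-- Models of the strict henselizations at a geometric point of `X` and at its image. -/
theorem exists_pair_model {X S : Scheme.{u}} (f : X ⟶ S) [Flat f] {Ω : Type u} [Field Ω] [IsSepClosed Ω]
    (ξ : Spec (CommRingCat.of Ω) ⟶ X)
    (hf : ShConn f ∨ GeomRedFibres f) :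
    ∃ (A B : Type u) (_ : CommRing A) (_ : HenselianLocalRing A) (_ : IsSepClosed (ResidueField A))
      (_ : CommRing B) (_ : HenselianLocalRing B) (_ : IsSepClosed (ResidueField B))
      (α : Spec (CommRingCat.of A) ⟶ S) (_ : Flat α) (_ : ProperPush24.HasLifts α)
      (β : Spec (CommRingCat.of B) ⟶ X) (_ : Flat β) (ψ : A →+* B) (_ : IsLocalHom ψ) (_ : RingHom.Flat ψ)
      (ζA : Spec (CommRingCat.of Ω) ⟶ Spec (CommRingCat.of (ResidueField A)))
      (ζB : Spec (CommRingCat.of Ω) ⟶ Spec (CommRingCat.of (ResidueField B))),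
      β ≫ f = Spec.map (CommRingCat.ofHom ψ) ≫ α ∧
      ζB ≫ Spec.map (CommRingCat.ofHom (residue B)) ≫ β = ξ ∧
      ζB ≫ Spec.map (CommRingCat.ofHom (residue B)) ≫ Spec.map (CommRingCat.ofHom ψ) =
        ζA ≫ Spec.map (CommRingCat.ofHom (residue A)) ∧
      ∀ (L : Type u) [Field L] [IsAlgClosed L] (η : Spec (CommRingCat.of L) ⟶ Spec (CommRingCat.of A)),
        ConnectedSpace ↥(pullback (Spec.map (CommRingCat.ofHom ψ)) η) := by
  let x := ξ default
  obtain ⟨U, hU, hxU, -⟩ : ∃ U : S.Opens, IsAffineOpen U ∧ f x ∈ U ∧ (U : Set S) ⊆ Set.univ :=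
    exists_isAffineOpen_mem_and_subset (U := (⊤ : S.Opens)) trivial
  obtain ⟨V, hV, hxV, hVU⟩ : ∃ V : X.Opens, IsAffineOpen V ∧ x ∈ V ∧ (V : Set X) ⊆ (f ⁻¹ᵁ U : X.Opens) :=
    exists_isAffineOpen_mem_and_subset (U := f ⁻¹ᵁ U) hxU
  let ξ₀ : Spec (CommRingCat.of Ω) ⟶ V.toScheme := IsOpenImmersion.lift V.ι ξ (by
    rw [Scheme.Opens.range_ι]
    rintro _ ⟨z, rfl⟩
    rw [Subsingleton.elim z default]
    exact hxV)
  have hξ₀ : ξ₀ ≫ V.ι = ξ := IsOpenImmersion.lift_fac _ _ _
  let φ' : Γ(X, V) ⟶ CommRingCat.of Ω := Spec.preimage (ξ₀ ≫ hV.isoSpec.hom)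
  have hφ' : Spec.map φ' ≫ hV.fromSpec = ξ := by
    rw [Spec.map_preimage, Category.assoc, ← IsAffineOpen.isoSpec_inv_ι, Iso.hom_inv_id_assoc, hξ₀]
  let φf : Γ(S, U) ⟶ Γ(X, V) := f.appLE U V hVU
  let R : Type u := Γ(S, U)
  let R' : Type u := Γ(X, V)
  letI : Algebra R R' := φf.hom.toAlgebra
  letI : Algebra R' Ω := φ'.hom.toAlgebra
  letI : Algebra R Ω := (φ'.hom.comp φf.hom).toAlgebra
  haveI : IsScalarTower R R' Ω := IsScalarTower.of_algebraMap_eq fun _ => rfl
  let A := Hs R Ω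
  let B := Hs R' Ω
  obtain ⟨ψ, hψR, hψres⟩ := exists_hsMap (R := R) (R' := R') (Ω := Ω)
  haveI : IsLocalHom ψ := ⟨fun a ha => (Hs.isUnit_iff a).2 (hψres a ▸ (Hs.isUnit_iff _).1 ha)⟩
  -- strict henselizations of the local rings
  letI : Algebra R (S.presheaf.stalk (f x)) := (S.presheaf.germ U (f x) hxU).hom.toAlgebra
  letI : Algebra R' (X.presheaf.stalk x) := (X.presheaf.germ V x hxV).hom.toAlgebra
  let qS : Ideal R := (hU.primeIdealOf ⟨f x, hxU⟩).asIdeal
  let qX : Ideal R' := (hV.primeIdealOf ⟨x, hxV⟩).asIdeal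
  haveI : IsLocalization.AtPrime (S.presheaf.stalk (f x)) qS := hU.isLocalization_stalk ⟨f x, hxU⟩
  haveI : IsLocalization.AtPrime (X.presheaf.stalk x) qX := hV.isLocalization_stalk ⟨x, hxV⟩
  have hptX : (Spec.map φ') default = hV.primeIdealOf ⟨x, hxV⟩ := by
    rw [Spec.map_preimage, Scheme.Hom.comp_apply]
    refine congrArg (fun z => hV.isoSpec.hom z) (Subtype.ext ?_)
    show V.ι (ξ₀ default) = x
    rw [← Scheme.Hom.comp_apply, hξ₀]
  have hqX : ∀ r : R', algebraMap R' Ω r = 0 ↔ r ∈ qX := by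
    intro r
    show φ'.hom r = 0 ↔ _
    rw [show qX = ((Spec.map φ') default : PrimeSpectrum R').asIdeal by rw [hptX]]
    show φ'.hom r = 0 ↔ φ'.hom r ∈ ((default : Spec (CommRingCat.of Ω)) : PrimeSpectrum Ω).asIdeal
    rw [Ideal.eq_bot_of_prime ((default : Spec (CommRingCat.of Ω)) : PrimeSpectrum Ω).asIdeal, Ideal.mem_bot]
  have hcomp : Spec.map (φf ≫ φ') ≫ hU.fromSpec = ξ ≫ f := by
    rw [Spec.map_comp, Category.assoc, IsAffineOpen.SpecMap_appLE_fromSpec f hU hV hVU, ← Category.assoc, hφ']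
  have hptS : (Spec.map (φf ≫ φ')) default = hU.primeIdealOf ⟨f x, hxU⟩ := by
    apply hU.fromSpec.isOpenEmbedding.injective
    rw [← Scheme.Hom.comp_apply, hcomp, hU.fromSpec_primeIdealOf, Scheme.Hom.comp_apply]
  have hqS : ∀ r : R, algebraMap R Ω r = 0 ↔ r ∈ qS := by
    intro r
    show (φf ≫ φ').hom r = 0 ↔ _
    rw [show qS = ((Spec.map (φf ≫ φ')) default : PrimeSpectrum R).asIdeal by rw [hptS]]
    show (φf ≫ φ').hom r = 0 ↔ (φf ≫ φ').hom r ∈ ((default : Spec (CommRingCat.of Ω)) : PrimeSpectrum Ω).asIdeal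
    rw [Ideal.eq_bot_of_prime ((default : Spec (CommRingCat.of Ω)) : PrimeSpectrum Ω).asIdeal, Ideal.mem_bot]
  obtain ⟨_, _, hstA, hshA⟩ := HensPt14.exists_isStrictHenselization (R := R) (K := Ω) qS hqS (S.presheaf.stalk (f x))
  obtain ⟨_, _, hstB, hshB⟩ := HensPt14.exists_isStrictHenselization (R := R') (K := Ω) qX hqX (X.presheaf.stalk x)
  have hcompat : ψ.comp (algebraMap (S.presheaf.stalk (f x)) A) =
      (algebraMap (X.presheaf.stalk x) B).comp (f.stalkMap x).hom := by
    refine IsLocalization.ringHom_ext qS.primeCompl (RingHom.ext fun r => ?_)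
    show ψ (algebraMap (S.presheaf.stalk (f x)) A (algebraMap R _ r)) =
      algebraMap (X.presheaf.stalk x) B (f.stalkMap x (algebraMap R _ r))
    rw [← IsScalarTower.algebraMap_apply R (S.presheaf.stalk (f x)) A, hψR,
      IsScalarTower.algebraMap_apply R' (X.presheaf.stalk x) B]
    refine congrArg (algebraMap (X.presheaf.stalk x) B) ?_
    show X.presheaf.germ V x hxV (f.appLE U V hVU r) = f.stalkMap x (S.presheaf.germ U (f x) hxU r)
    rw [Scheme.Hom.germ_stalkMap_apply]
    show X.presheaf.germ V x hxV ((X.presheaf.map (homOfLE hVU).op) (f.app U r)) = _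
    exact TopCat.Presheaf.germ_res_apply _ _ _ _ _
  haveI := hshA
  haveI := hshB
  haveI : IsSepClosed (ResidueField A) := hshA.isSepClosure.sep_closed
  haveI : IsSepClosed (ResidueField B) := hshB.isSepClosure.sep_closed
  let α : Spec (CommRingCat.of A) ⟶ S := Spec.map (CommRingCat.ofHom (algebraMap R A) : Γ(S, U) ⟶ _) ≫ hU.fromSpec
  let β : Spec (CommRingCat.of B) ⟶ X := Spec.map (CommRingCat.ofHom (algebraMap R' B) : Γ(X, V) ⟶ _) ≫ hV.fromSpec
  haveI : Flat (Spec.map (CommRingCat.ofHom (algebraMap R A))) :=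
    (HasRingHomProperty.Spec_iff (P := @Flat)).2 (RingHom.flat_algebraMap_iff.2 inferInstance)
  haveI : Flat (Spec.map (CommRingCat.ofHom (algebraMap R' B))) :=
    (HasRingHomProperty.Spec_iff (P := @Flat)).2 (RingHom.flat_algebraMap_iff.2 inferInstance)
  haveI : Flat α := by
    show Flat (Spec.map (CommRingCat.ofHom (algebraMap R A) : Γ(S, U) ⟶ _) ≫ hU.fromSpec)
    exact inferInstance
  haveI : Flat β := by
    show Flat (Spec.map (CommRingCat.ofHom (algebraMap R' B) : Γ(X, V) ⟶ _) ≫ hV.fromSpec)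
    exact inferInstance
  have hflat : RingHom.Flat ψ := by
    refine flat_hs_of_stages B ψ fun i => flat_of_etale (R := R) (S := i.S) _ ?_
    have hφf : RingHom.Flat φf.hom := f.flat_appLE hU hV hVU
    have hB : RingHom.Flat (algebraMap R' B) := RingHom.flat_algebraMap_iff.2 inferInstance
    have e : ((ψ.comp (Hs.of i).toRingHom).comp (algebraMap i.S i.G)).comp (algebraMap R i.S) =
        (algebraMap R' B).comp φf.hom := by
      refine RingHom.ext fun r => ?_
      show ψ (Hs.of i (algebraMap i.S i.G (algebraMap R i.S r))) = _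
      rw [← IsScalarTower.algebraMap_apply, AlgHom.commutes, hψR]
      rfl
    rw [e]
    exact hφf.comp hB
  have hαβ : β ≫ f = Spec.map (CommRingCat.ofHom ψ) ≫ α := by
    show (Spec.map _ ≫ hV.fromSpec) ≫ f = Spec.map _ ≫ Spec.map (CommRingCat.ofHom (algebraMap R A) : Γ(S, U) ⟶ _) ≫ hU.fromSpec
    rw [Category.assoc, ← IsAffineOpen.SpecMap_appLE_fromSpec f hU hV hVU, ← Spec.map_comp_assoc, ← Spec.map_comp_assoc]
    congr 2
    exact CommRingCat.hom_ext (RingHom.ext fun r => (hψR r).symm)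
  refine ⟨A, B, inferInstance, inferInstance, inferInstance, inferInstance, inferInstance, inferInstance,
    α, inferInstance, ProperPush24.hasLifts_hs hU, β, inferInstance, ψ, inferInstance, hflat,
    Spec.map (CommRingCat.ofHom (HensPt14.resK (R := R) (K := Ω))),
    Spec.map (CommRingCat.ofHom (HensPt14.resK (R := R') (K := Ω))), hαβ, ?_, ?_,
    ?_⟩
  · rw [← hφ']
    show Spec.map _ ≫ Spec.map _ ≫ Spec.map (CommRingCat.ofHom (algebraMap R' B) : Γ(X, V) ⟶ _) ≫ hV.fromSpec = _
    rw [← Spec.map_comp_assoc, ← Spec.map_comp_assoc]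
    congr 2
    exact CommRingCat.hom_ext (RingHom.ext fun r => (Hs.res (R := R') (K := Ω)).commutes r)
  · rw [← Spec.map_comp, ← Spec.map_comp, ← Spec.map_comp]
    congr 1
    exact CommRingCat.hom_ext (RingHom.ext fun a => hψres a)
  · rcases hf with hconn | ⟨hlfp, hred⟩
    · exact fun L _ _ η => hconn x A B ψ hcompat L η
    · intro L _ _ η
      haveI : Algebra.FinitePresentation R R' :=
        HasRingHomProperty.appLE @LocallyOfFinitePresentation f hlfp ⟨U, hU⟩ ⟨V, hV⟩ hVU
      haveI : Module.Flat R R' := f.flat_appLE hU hV hVU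
      refine GeomConn24.connectedSpace_fibre (fun K _ _ => ?_) ψ hflat hψR L η
      let g := Spec.map (CommRingCat.ofHom (algebraMap R K) : Γ(S, U) ⟶ _)
      let m : pullback (Spec.map φf) g ⟶ pullback f (g ≫ hU.fromSpec) :=
        pullback.map _ _ _ _ hV.fromSpec (𝟙 _) hU.fromSpec
          (IsAffineOpen.SpecMap_appLE_fromSpec f hU hV hVU) (Category.id_comp _).symm
      haveI : IsOpenImmersion m := by simp only [m]; infer_instance
      haveI := hred K (g ≫ hU.fromSpec)
      haveI := isReduced_of_isOpenImmersion m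
      haveI := isReduced_of_isOpenImmersion (pullbackSpecIso R R' K).inv
      exact (affine_isReduced_iff (CommRingCat.of (R' ⊗[R] K))).1 inferInstance

end Groth.Agent.ShFlat24
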